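import Cfsg.Agent.Helper36.F4Ev.Rank
import Cfsg.Agent.Helper36.F4Mix.P_BC
import Cfsg.Agent.Helper36.F4Mix.P_BS

/-!
Helper36, piece (C) for helper4's S2174: the four involutions `x₄₇(1)`, `x₄₄(1)`, `x₄₇(1) x₄₄(1)`,
`x₃₉(1) x₄₅(1)` of `F₄(K)`, `char K = 2`, are pairwise non-conjugate in the group.

The ranks of `y - 1` (`Rank.lean`: `≤ 16`, `≤ 16`, `= 21`, `≥ 24`) separate all pairs but `x₄₇(1)`, `x₄₄(1)`.
For these: if `g x₄₇(1) g⁻¹ = x₄₄(1)`, `g = b n_w u` (Bruhat, S1100), then, the root subgroups `X₄₇`, `X₄₄`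
being central in `U` and normalized by `H`, `n_w X₄₇ n_w⁻¹` meets `X₄₄` non-trivially, so `w(47) ∈ {44, 47}`
(`F4Mix.supp_transport`); `w(47) = 44` is impossible (`47` is long, `44` is short), and `w(47) = 47` gives
`x₄₇(a) = x₄₄(b)`, `a ≠ 0`, against `F4Mix.ev_inj`.
-/

set_option autoImplicit false

namespace Cfsg.Agent.Helper36.F4Ev

open Cfsg Cfsg.Lie Cfsg.Agent.Helper18 Cfsg.Agent.Helper36.F4Mix

local notation "hF4" => Cfsg.Agent.Helper36.SigmaF4.hF4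

/-- the long roots of `F₄` (the orbit of the highest root `47`) -/
def longL : List ℕ :=
  [0, 1, 2, 4, 5, 6, 15, 16, 17, 21, 22, 23, 24, 25, 26, 30, 31, 32, 41, 42, 43, 45, 46, 47]

theorem refl_long : ∀ i < 4, ∀ r < 48,
    (chevF4.reflectRoot i r ∈ longL ↔ r ∈ longL) ∧ chevF4.reflectRoot i r < 48 := by decide +kernel

/-- the Weyl group preserves the lengths of the roots -/
theorem rho_long (word : List ℕ) (hw : ∀ i ∈ word, i < 4) (r : ℕ) (hr : r < 48) :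
    (rho chevF4 word r ∈ longL ↔ r ∈ longL) ∧ rho chevF4 word r < 48 := by
  induction word with
  | nil => exact ⟨Iff.rfl, hr⟩
  | cons i w ih =>
    have hi := hw i List.mem_cons_self
    obtain ⟨h1, h2⟩ := ih (fun j hj => hw j (List.mem_cons_of_mem _ hj))
    have h3 := refl_long i hi _ h2
    show (chevF4.reflectRoot i (rho chevF4 w r) ∈ longL ↔ r ∈ longL) ∧
      chevF4.reflectRoot i (rho chevF4 w r) < 48
    exact ⟨h3.1.trans h1, h3.2⟩

theorem posA1 : ∀ r ∈ A1, chevF4.IsPosRoot r := by decide +kernel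

variable {F : Type*} [Field F]

theorem ev_A1 (c : ℕ → F) : ev A1 c = xGL chevF4 F 44 (c 44) * xGL chevF4 F 47 (c 47) := by
  unfold A1
  rw [ev_cons, ev_cons, ev_nil, mul_one]

theorem ev_A1_47 (c : ℕ → F) (h : c 44 = 0) : ev A1 c = xGL chevF4 F 47 (c 47) := by
  rw [ev_A1, h, xGL_zero, one_mul]

theorem ev_A1_44 (c : ℕ → F) (h : c 47 = 0) : ev A1 c = xGL chevF4 F 44 (c 44) := by
  rw [ev_A1, h, xGL_zero, mul_one]

variable [CharP F 2]

/-- `X₄₇ ∩ X₄₄ = 1` -/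
theorem x47_ne_x44 (a b : F) (h : xGL chevF4 F 47 a = xGL chevF4 F 44 b) : a = 0 := by
  have h1 : ev A1 (fun r => if r = 47 then a else 0) = ev A1 (fun r => if r = 44 then b else 0) := by
    rw [ev_A1_47 _ (by simp), ev_A1_44 _ (by simp)]
    simpa using h
  have h2 := ev_inj A1 (by decide) _ _ posA1 comm_A1 h1 47 (by decide)
  simpa using h2

/-- `U` centralizes `ev A1 c`, so it stabilizes any set of such elements -/
theorem pos_le_stab (good : (ℕ → F) → Prop) : chevF4.posUnipotent F ≤ BS_stab A1 good := by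
  have htri := triOK_of_mem chevF4 EV_hF4
  have key : ∀ (r : ℕ) (t : F), chevF4.IsPosRoot r → ∀ c : ℕ → F, good c →
      ∃ c', xGL chevF4 F r t * ev A1 c * (xGL chevF4 F r t)⁻¹ = ev A1 c' ∧ good c' := by
    intro r t hr c hc
    refine ⟨c, ?_, hc⟩
    rw [ev_conj1 r hr t c]
    group
  unfold ChevalleyDatum.posUnipotent
  rw [Subgroup.closure_le]
  rintro g ⟨r, t, hr, hg⟩
  have e : g = xGL chevF4 F r t := Units.ext (by rw [hg, xGL_val _ _ htri])
  rw [SetLike.mem_coe, e, BS_mem_stab]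
  refine ⟨key r t hr, ?_⟩
  rw [xGL_inv' chevF4 EV_hF4]
  exact key r (-t) hr

theorem borel_le_stab (good : (ℕ → F) → Prop)
    (hgood : ∀ (χ : ℕ → F), (∀ s, χ s ≠ 0) → ∀ c, good c → good fun r => χ r * c r) :
    chevF4.borelSubgroup F ≤ BS_stab A1 good := by
  unfold ChevalleyDatum.borelSubgroup
  exact sup_le (pos_le_stab good) (BS_diag_le A1 EV_A1_lt good hgood)

/-- `x₄₇(1)` and `x₄₄(1)` are not conjugate in `F₄(K)`, `char K = 2` -/
theorem not_conj_47_44 (g : GL chevF4.Idx F) (hg : g ∈ chevF4.group F)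
    (h : g * xGL chevF4 F 47 1 * g⁻¹ = xGL chevF4 F 44 1) : False := by
  have hB47 : chevF4.borelSubgroup F ≤ BS_stab A1 (fun c : ℕ → F => c 47 ≠ 0 ∧ c 44 = 0) := by
    apply borel_le_stab
    intro χ hχ c hc
    exact ⟨mul_ne_zero (hχ 47) hc.1, by show χ 44 * c 44 = 0; rw [hc.2, mul_zero]⟩
  have hB44 : chevF4.borelSubgroup F ≤ BS_stab A1 (fun c : ℕ → F => c 44 ≠ 0 ∧ c 47 = 0) := by
    apply borel_le_stab
    intro χ hχ c hc
    exact ⟨mul_ne_zero (hχ 44) hc.1, by show χ 47 * c 47 = 0; rw [hc.2, mul_zero]⟩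
  obtain ⟨b₁, hb₁, n, hn, u, hu, rfl⟩ := (Cfsg.Agent.S1100.result (F := F) chevF4 hF4).1 g hg
  obtain ⟨word, hww, t, ht, rfl⟩ := mem_monomial_decomp chevF4 hF4 n hn
  have hw : ∀ i ∈ word, i < 4 := hww
  have huU : u ∈ chevF4.posUnipotent F := Cfsg.Agent.Helper36.bruhatU_le_pos chevF4 _ hu
  have huB : u ∈ chevF4.borelSubgroup F := Subgroup.mem_sup_left huU
  set x := b₁ * t with hx
  have hxB : x ∈ chevF4.borelSubgroup F := Subgroup.mul_mem _ hb₁ (Subgroup.mem_sup_right ht)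
  set n' := nWordsGL chevF4 F word with hn'
  have hgx : b₁ * (t * n') * u = x * n' * u := by rw [hx]; group
  rw [hgx] at h
  obtain ⟨c', e1, hc'1, hc'2⟩ := (BS_mem_stab.mp (hB47 huB)).1 (fun r => if r = 47 then 1 else 0)
    ⟨by simp, by simp⟩
  obtain ⟨d, e2, hd1, hd2⟩ := (BS_mem_stab.mp (hB44 (Subgroup.inv_mem _ hxB))).1
    (fun r => if r = 44 then 1 else 0) ⟨by simp, by simp⟩
  rw [inv_inv] at e2
  rw [ev_A1_47 _ (by simp)] at e1
  rw [ev_A1_44 _ (by simp)] at e2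
  simp only [if_true] at e1 e2
  have heq : n' * ev A1 c' * n'⁻¹ = ev A1 d := by
    rw [← e1, ← e2]
    calc n' * (u * xGL chevF4 F 47 1 * u⁻¹) * n'⁻¹
        = x⁻¹ * (x * n' * u * xGL chevF4 F 47 1 * (x * n' * u)⁻¹) * x := by group
      _ = x⁻¹ * xGL chevF4 F 44 1 * x := by rw [h]
  have hst := supp_transport A1 (by decide) posA1 comm_A1 word hw c' d heq 47 (by decide) hc'1
  have hlong := (rho_long word hw 47 (by decide)).1
  have h47 : (47 : ℕ) ∈ longL := by decide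
  have hρ : rho chevF4 word 47 = 47 := by
    have hmem : rho chevF4 word 47 = 44 ∨ rho chevF4 word 47 = 47 := by
      unfold A1 at hst
      simpa using hst
    rcases hmem with h44 | h47'
    · exfalso
      have := hlong.mpr h47
      rw [h44] at this
      revert this
      decide
    · exact h47'
  obtain ⟨η, hη0, hη⟩ := conj_ev (F := F) word hw
  have e3 := hη A1 EV_A1_lt c'
  rw [← hn', heq] at e3
  have e4 : evm A1 (rho chevF4 word) (fun r => η r * c' r) = xGL chevF4 F 47 (η 47 * c' 47) := by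
    unfold A1
    rw [evm_cons, evm_cons]
    simp only [evm, List.map_nil, List.prod_nil, mul_one]
    rw [hc'2, mul_zero, xGL_zero, one_mul, hρ]
  rw [e4, ev_A1_44 d hd2] at e3
  have := x47_ne_x44 _ _ e3.symm
  exact mul_ne_zero (hη0 47) hc'1 this

section Final

theorem xGL_mat (r : ℕ) (a : F) :
    ((xGL chevF4 F r a : GL chevF4.Idx F) : Matrix chevF4.Idx chevF4.Idx F) = chevF4.x F r a :=
  xGL_val chevF4 _ (triOK_of_mem chevF4 hF4) r a

theorem eq_xGL_of_mat {y : GL chevF4.Idx F} {r : ℕ} {a : F}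
    (h : (y : Matrix chevF4.Idx chevF4.Idx F) = chevF4.x F r a) : y = xGL chevF4 F r a :=
  Units.ext (by rw [h, xGL_mat])

/-- the rank of `y - 1` -/
noncomputable def rk (y : GL chevF4.Idx F) : ℕ := ((y : Matrix chevF4.Idx chevF4.Idx F) - 1).rank

theorem rk_conj (g y : GL chevF4.Idx F) : rk (g * y * g⁻¹) = rk y := rank_sub_one_conj F g y

/-- PIECE (C): conjunct 3 of S2174 -/
theorem nonconj :
    ∀ y₁ ∈ Cfsg.Lie.chevF4.group F, ∀ y₂ ∈ Cfsg.Lie.chevF4.group F,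
      ((y₁ : GL Cfsg.Lie.chevF4.Idx F) : Matrix Cfsg.Lie.chevF4.Idx Cfsg.Lie.chevF4.Idx F) ∈
        [Cfsg.Lie.chevF4.x F 47 1, Cfsg.Lie.chevF4.x F 44 1,
          Cfsg.Lie.chevF4.x F 47 1 * Cfsg.Lie.chevF4.x F 44 1,
          Cfsg.Lie.chevF4.x F 39 1 * Cfsg.Lie.chevF4.x F 45 1] →
      ((y₂ : GL Cfsg.Lie.chevF4.Idx F) : Matrix Cfsg.Lie.chevF4.Idx Cfsg.Lie.chevF4.Idx F) ∈
        [Cfsg.Lie.chevF4.x F 47 1, Cfsg.Lie.chevF4.x F 44 1,
          Cfsg.Lie.chevF4.x F 47 1 * Cfsg.Lie.chevF4.x F 44 1,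
          Cfsg.Lie.chevF4.x F 39 1 * Cfsg.Lie.chevF4.x F 45 1] →
      (∃ h ∈ Cfsg.Lie.chevF4.group F, h * y₁ * h⁻¹ = y₂) →
      ((y₁ : GL Cfsg.Lie.chevF4.Idx F) : Matrix Cfsg.Lie.chevF4.Idx Cfsg.Lie.chevF4.Idx F) =
        ((y₂ : GL Cfsg.Lie.chevF4.Idx F) : Matrix Cfsg.Lie.chevF4.Idx Cfsg.Lie.chevF4.Idx F) := by
  intro y₁ _ y₂ _ hy₁ hy₂ hconj
  obtain ⟨g, hg, hgy⟩ := hconj
  have hrk : rk y₂ = rk y₁ := by rw [← hgy, rk_conj]
  have r47 := rank_x47 F
  have r44 := rank_x44 F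
  have rz1 := rank_z_le F
  have rz2 := rank_z_ge F
  have rv := rank_v_ge F
  simp only [List.mem_cons, List.not_mem_nil, or_false] at hy₁ hy₂
  unfold rk at hrk
  rcases hy₁ with h1 | h1 | h1 | h1 <;> rcases hy₂ with h2 | h2 | h2 | h2
  all_goals first
    | (rw [h1, h2]; done)
    | (exfalso; rw [h1, h2] at hrk; omega)
    | skip
  · -- `x₄₇(1) → x₄₄(1)`
    exfalso
    rw [eq_xGL_of_mat h1, eq_xGL_of_mat h2] at hgy
    exact not_conj_47_44 g hg hgy
  · -- `x₄₄(1) → x₄₇(1)`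
    exfalso
    rw [eq_xGL_of_mat h1, eq_xGL_of_mat h2] at hgy
    apply not_conj_47_44 g⁻¹ (Subgroup.inv_mem _ hg)
    rw [← hgy]
    group

end Final

end Cfsg.Agent.Helper36.F4Ev
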