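import Cfsg.Agent.Helper27.F4X2
import Cfsg.Agent.Helper27.F4X3
import Cfsg.Agent.Helper18.ScalarExt

/-!
Helper36, piece (C) for helper4's S2174, part 1: the ranks of `y - 1` on the 52-dimensional module, `char K = 2`,
for `y = x₄₇(1), x₄₄(1), x₄₇(1) x₄₄(1), x₃₉(1) x₄₅(1)`: `≤ 16`, `≤ 16`, `= 21`, `≥ 24`.  Certificates over `ZMod 2`
on helper27's packed codes (`Helper27.BitMat`), transported along `ZMod 2 →+* K`; the pattern is helper31's
`Helper31/F4Inv/NC.lean`.
-/

set_option autoImplicit false

namespace Cfsg.Agent.Helper36.F4Ev

open Cfsg Cfsg.Lie Cfsg.Agent.Helper27.BitMat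

/-- the matrix with packed code `c` -/
def dec (c : ℕ) : Mat52 := Matrix.of fun a b => if Nat.testBit c (52 * cd a + cd b) then 1 else 0

theorem isCodeM_dec {c : ℕ} (hc : c < 2 ^ 2704) : IsCodeM c (dec c) := ⟨hc, fun _ _ => rfl⟩

theorem isCodeM_sub {c d : ℕ} {g h : Mat52} (hc : IsCodeM c g) (hd : IsCodeM d h) :
    IsCodeM (c ^^^ d) (g - h) := by
  refine ⟨Nat.xor_lt_two_pow hc.1 hd.1, fun a b => ?_⟩
  rw [Matrix.sub_apply, hc.2, hd.2, Nat.testBit_xor]
  cases Nat.testBit c (52 * cd a + cd b) <;> cases Nat.testBit d (52 * cd a + cd b) <;> decide

/-- the diagonal idempotent of rank `k` -/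
def diagE (k : ℕ) : Mat52 := Matrix.diagonal fun i => if cd i < k then 1 else 0

def cE16 : ℕ := 208375451027495469199317718197759609593606510829720321639866939801397586254000119197420249200236823953467946716533489750793605077568461282249750209940726113329050503006216629551767837568045472190529089354099384297799517502597971505477320705
def cE21 : ℕ := 12353653155963784229959688262809365751114407533385793306313778475701931610886804330142550204789738290085416618763881385727924744736446335729823763179897442333993335337691763918954786034638646918940359482350392817101828139696240794300011311903264791755077892320353474838044950402916492807087827356057798191323641230131201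
def cE24 : ℕ := 9027442157229573422292722960314541654009390006109557236351822611895626060409896143515626870493787216010815805145588040424130455641534564317807050258959210150266352451632715838426062776805531830307846283663126491829413801753125215006295511431926183434878475385940363878870736414994038841163181584946367175549464859899330234636709738470057392690820501632532241285382145
def cP_a47 : ℕ := 70309124367873033113987029585732696259174632394567838947655236331402881191083547235850499458960808205465109642418006496563603264429317090477440743675618186173460435502074432427874794272241592558035995894407968650613033294514177653869848445717239651028709026989526218223777510332846156561582497327014880617606440294302860912558273202625360444836673207799915658401749329341041695315986189008814247787519014370812053049903477413130657115982182211131021469985443505269519254058930248158422378417851745423357559271919407903228353483884461125370716215529528154673832964502125223571892889504815486542922157447787640235572725183702478102954480412646840617088102648092211323856057781436758880651767758235099378457786367051675760774380264183372963774141816367542420299915217410814909455718924590559264774979321857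
def cQ_a47 : ℕ := 50872913038025999076013154083389247040112778939315802020887494652326012698765387520860056929328605390877035255943873513481887042076623747013467517526424712817648727665799794982778145027841652831340974188492865668771623638162695459438608
def cP_a44 : ℕ := 137318317908507251344576132604332592774713733048063260548687771706728259551799393502066289872290934204796494436800021987588767511253878246179309089572006941822153040998958595250040212344736244102349211492807090008273998580915325409459654145050985506057779149461614898529415303602568590257965838418892901166387986917531310172523093011663753527128998999660797055441371686929756466399120430918581407231591298743925041426390535072913888100653649451612896698534070033317384003506804480610215294880089581345443063529982152983640839591127556829226251071209064311577287190530778122902911998947323678993628773897363493988133040036881146693046494321752035067993097562723308632357433660810400912765144009369159876637104685113292508273309440843095311013010714952625350418380344324474360195998324027862397183066112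
def cQ_a44 : ℕ := 6359114106433852955966023509597335791344322697176029061356497490515859888074797734298045974600019995877365564151238629132892827558670094072688686881358895175439790040574997959392019430483865206376551279223384756261961272324142818918528
def cP_az : ℕ := 2249962784529608633706443982414303941372205704851704463431923439286504439720824678012072888252243170435711504366828007207794839158030421796201204980579421134740496822110431390719763669889273996559603991558780817253506372474221338008027722964906780332928740231297408111007739313261606447442578602174740250727825106774600701748741935435701795807044274558958923230933640994600111739826269137991786248811244423289746446167694694122336584477689200039443777870422477033954897791387318017572394013669250575266682659417631816109521567384067838490433984148007314823874293393022532724461191663661268162870096202455633488416684311203560133615588952954657645241403216295997449599525086416419914498300652703008455571053184712088941235013044239442249057779970265387125076168262920403910594517788416712999644172335972353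
def cQ_az : ℕ := 94250894180181328665954291205847562829890286398825168368875822765937404106487026211375661186410055590913112727528216431680610553502827417184276549516935547042718210625035081505887411218489083168989940153748861336046485591248378991521589677047893282429549216533548967776596122553195220253815471452122756685148192784
def cT_az : ℕ := 26529369346622509313444299974347487110417156149238001275068006161945227433087533902199094045528505638332242348705117634102931495734723434853201727615881346784846037995779148389421521551904234720739055354667096586286293480877020946558857883444268034590819768952150605204776727447144950621427625890393928480618107933047725467107329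
def cU_az : ℕ := 232104643916794388725823478164361869831817963484706626133221682384297829141161282000296488359473036760131903458942127911705107232007487756303195959091286061127694308070913701314309737633740355962364969344800596010392921448622375984176426152452890481779210305589195971219455840337582027406067283758360386788373026753499110997886863950699837626718138874456166643130082689347784738306817636033723911662018358802856181678653722198016
def cT_av : ℕ := 2423285552007175961261966663924119366856868956836552515177715523838023350308942382226241900549969634628159251360594069959504680555783836416242808854447172504380432661993335210565145156173640884873031328265782907099229138244817256445796808885233175134139571502080395685524728972173180451536555217565268783832452193300891584978481131054443689745160918482315222339361896688254977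
def cU_av : ℕ := 824601343356314993452171286666890150256490204472850936802440982544272367913401968730773240992703346179286956778460441105218570881403031611637405576341677939205269571838243997804875197455675559754281793776609796158412810719892242137068265487222985052426752976151026063764046626764473776782414656004609770545733150499793248500441724959141971723417963530213206344268126283205919411603235670714011345463294007093231616

theorem cP_a47_lt : cP_a47 < 2 ^ 2704 := by decide +kernel
theorem cQ_a47_lt : cQ_a47 < 2 ^ 2704 := by decide +kernel
theorem cP_a44_lt : cP_a44 < 2 ^ 2704 := by decide +kernel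
theorem cQ_a44_lt : cQ_a44 < 2 ^ 2704 := by decide +kernel
theorem cP_az_lt : cP_az < 2 ^ 2704 := by decide +kernel
theorem cQ_az_lt : cQ_az < 2 ^ 2704 := by decide +kernel
theorem cT_az_lt : cT_az < 2 ^ 2704 := by decide +kernel
theorem cU_az_lt : cU_az < 2 ^ 2704 := by decide +kernel
theorem cT_av_lt : cT_av < 2 ^ 2704 := by decide +kernel
theorem cU_av_lt : cU_av < 2 ^ 2704 := by decide +kernel
theorem cE16_lt : cE16 < 2 ^ 2704 := by decide +kernel
theorem cE21_lt : cE21 < 2 ^ 2704 := by decide +kernel
theorem cE24_lt : cE24 < 2 ^ 2704 := by decide +kernel

/-- the code of `x₄₇(1) x₄₄(1)` -/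
def cZ : ℕ := mulU cX47 cX44
/-- the code of `x₃₉(1) x₄₅(1)` -/
def cV : ℕ := mulU cX39 cX45

theorem cert_a47_1 : mulU cP_a47 cQ_a47 = cX47 ^^^ Icode := by decide +kernel
theorem cert_a47_2 : mulU cP_a47 cE16 = cP_a47 := by decide +kernel
theorem cert_a44_1 : mulU cP_a44 cQ_a44 = cX44 ^^^ Icode := by decide +kernel
theorem cert_a44_2 : mulU cP_a44 cE16 = cP_a44 := by decide +kernel
theorem cert_az_1 : mulU cP_az cQ_az = cZ ^^^ Icode := by decide +kernel
theorem cert_az_2 : mulU cP_az cE21 = cP_az := by decide +kernel
theorem cert_az_3 : mulU (mulU cT_az (cZ ^^^ Icode)) cU_az = cE21 := by decide +kernel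
theorem cert_av_3 : mulU (mulU cT_av (cV ^^^ Icode)) cU_av = cE24 := by decide +kernel

set_option maxRecDepth 1000000 in
theorem chkE16 : ∀ p : chevF4.Idx × chevF4.Idx,
    diagE 16 p.1 p.2 = if Nat.testBit cE16 (52 * cd p.1 + cd p.2) then 1 else 0 := by
  decide +kernel

theorem hE16 : IsCodeM cE16 (diagE 16) := ⟨cE16_lt, fun a b => chkE16 (a, b)⟩

theorem card_cd_lt_16 : Fintype.card {i : chevF4.Idx // cd i < 16} = 16 := by decide +kernel

set_option maxRecDepth 1000000 in
theorem chkE21 : ∀ p : chevF4.Idx × chevF4.Idx,
    diagE 21 p.1 p.2 = if Nat.testBit cE21 (52 * cd p.1 + cd p.2) then 1 else 0 := by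
  decide +kernel

theorem hE21 : IsCodeM cE21 (diagE 21) := ⟨cE21_lt, fun a b => chkE21 (a, b)⟩

theorem card_cd_lt_21 : Fintype.card {i : chevF4.Idx // cd i < 21} = 21 := by decide +kernel

set_option maxRecDepth 1000000 in
theorem chkE24 : ∀ p : chevF4.Idx × chevF4.Idx,
    diagE 24 p.1 p.2 = if Nat.testBit cE24 (52 * cd p.1 + cd p.2) then 1 else 0 := by
  decide +kernel

theorem hE24 : IsCodeM cE24 (diagE 24) := ⟨cE24_lt, fun a b => chkE24 (a, b)⟩

theorem card_cd_lt_24 : Fintype.card {i : chevF4.Idx // cd i < 24} = 24 := by decide +kernel

theorem hX44 : IsCodeM cX44 (chevF4.x (ZMod 2) 44 1) := ⟨cX44_lt, fun a b => chkX44 (a, b)⟩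
theorem hX47 : IsCodeM cX47 (chevF4.x (ZMod 2) 47 1) := ⟨cX47_lt, fun a b => chkX47 (a, b)⟩
theorem hX39 : IsCodeM cX39 (chevF4.x (ZMod 2) 39 1) := ⟨cX39_lt, fun a b => chkX39 (a, b)⟩
theorem hX45 : IsCodeM cX45 (chevF4.x (ZMod 2) 45 1) := ⟨cX45_lt, fun a b => chkX45 (a, b)⟩

/-! ### the identities over `𝔽₂` -/

theorem eq2_a47_1 : chevF4.x (ZMod 2) 47 1 - 1 = dec cP_a47 * dec cQ_a47 := by
  apply isCodeM_inj (c := cX47 ^^^ Icode)
  · exact isCodeM_sub hX47 isCodeM_one
  · rw [← cert_a47_1]
    exact isCodeM_mul (isCodeM_dec cP_a47_lt) (isCodeM_dec cQ_a47_lt)

theorem eq2_a47_2 : dec cP_a47 * diagE 16 = dec cP_a47 := by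
  apply isCodeM_inj (c := cP_a47)
  · rw [← cert_a47_2]
    exact isCodeM_mul (isCodeM_dec cP_a47_lt) hE16
  · exact isCodeM_dec cP_a47_lt

theorem eq2_a44_1 : chevF4.x (ZMod 2) 44 1 - 1 = dec cP_a44 * dec cQ_a44 := by
  apply isCodeM_inj (c := cX44 ^^^ Icode)
  · exact isCodeM_sub hX44 isCodeM_one
  · rw [← cert_a44_1]
    exact isCodeM_mul (isCodeM_dec cP_a44_lt) (isCodeM_dec cQ_a44_lt)

theorem eq2_a44_2 : dec cP_a44 * diagE 16 = dec cP_a44 := by
  apply isCodeM_inj (c := cP_a44)
  · rw [← cert_a44_2]
    exact isCodeM_mul (isCodeM_dec cP_a44_lt) hE16
  · exact isCodeM_dec cP_a44_lt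

theorem eq2_az_1 : chevF4.x (ZMod 2) 47 1 * chevF4.x (ZMod 2) 44 1 - 1 = dec cP_az * dec cQ_az := by
  apply isCodeM_inj (c := cZ ^^^ Icode)
  · exact isCodeM_sub (isCodeM_mul hX47 hX44) isCodeM_one
  · rw [← cert_az_1]
    exact isCodeM_mul (isCodeM_dec cP_az_lt) (isCodeM_dec cQ_az_lt)

theorem eq2_az_2 : dec cP_az * diagE 21 = dec cP_az := by
  apply isCodeM_inj (c := cP_az)
  · rw [← cert_az_2]
    exact isCodeM_mul (isCodeM_dec cP_az_lt) hE21
  · exact isCodeM_dec cP_az_lt

theorem eq2_az_3 : dec cT_az * (chevF4.x (ZMod 2) 47 1 * chevF4.x (ZMod 2) 44 1 - 1) * dec cU_az =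
    diagE 21 := by
  apply isCodeM_inj (c := cE21)
  · rw [← cert_az_3]
    exact isCodeM_mul (isCodeM_mul (isCodeM_dec cT_az_lt)
      (isCodeM_sub (isCodeM_mul hX47 hX44) isCodeM_one)) (isCodeM_dec cU_az_lt)
  · exact hE21

theorem eq2_av_3 : dec cT_av * (chevF4.x (ZMod 2) 39 1 * chevF4.x (ZMod 2) 45 1 - 1) * dec cU_av =
    diagE 24 := by
  apply isCodeM_inj (c := cE24)
  · rw [← cert_av_3]
    exact isCodeM_mul (isCodeM_mul (isCodeM_dec cT_av_lt)
      (isCodeM_sub (isCodeM_mul hX39 hX45) isCodeM_one)) (isCodeM_dec cU_av_lt)
  · exact hE24

section Transport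

variable (K : Type*) [Field K] [CharP K 2]

/-- the canonical homomorphism `ZMod 2 →+* K` -/
noncomputable def cast2 : ZMod 2 →+* K := ZMod.castHom (dvd_refl 2) K

theorem x_eq_map (r : ℕ) : chevF4.x K r 1 = (chevF4.x (ZMod 2) r 1).map (cast2 K) := by
  rw [Cfsg.Agent.Helper18.x_map', map_one]

theorem map_sub_one (M : Mat52) : (M - 1).map (cast2 K) = M.map (cast2 K) - 1 := by
  rw [Matrix.map_sub (cast2 K) (map_sub (cast2 K)), Matrix.map_one (cast2 K) (map_zero _) (map_one _)]

theorem rank_diagE (k : ℕ) : ((diagE k).map (cast2 K)).rank = Fintype.card {i : chevF4.Idx // cd i < k} := by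
  classical
  unfold diagE
  rw [Matrix.diagonal_map (map_zero _), Matrix.rank_diagonal]
  apply Fintype.card_congr
  apply Equiv.subtypeEquivRight
  intro i
  by_cases h : cd i < k
  · simp [h]
  · simp [h]

/-- an upper bound for the rank from a factorisation through `E_k` -/
theorem rank_map_le (M P Q : Mat52) (k : ℕ) (h1 : M = P * Q) (h2 : P * diagE k = P) :
    (M.map (cast2 K)).rank ≤ Fintype.card {i : chevF4.Idx // cd i < k} := by
  have e : M.map (cast2 K) = (P.map (cast2 K) * (diagE k).map (cast2 K)) * Q.map (cast2 K) := by
    rw [← Matrix.map_mul, h2, ← Matrix.map_mul, ← h1]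
  rw [e, ← rank_diagE K k]
  exact le_trans (Matrix.rank_mul_le_left _ _) (Matrix.rank_mul_le_right _ _)

/-- a lower bound for the rank from `T * M * U = E_k` -/
theorem rank_map_ge (M T U : Mat52) (k : ℕ) (h : T * M * U = diagE k) :
    Fintype.card {i : chevF4.Idx // cd i < k} ≤ (M.map (cast2 K)).rank := by
  have e : (diagE k).map (cast2 K) = (T.map (cast2 K) * M.map (cast2 K)) * U.map (cast2 K) := by
    rw [← Matrix.map_mul, ← Matrix.map_mul, h]
  rw [← rank_diagE K k, e]
  exact le_trans (Matrix.rank_mul_le_left _ _) (Matrix.rank_mul_le_right _ _)

theorem rank_x47 : (chevF4.x K 47 1 - 1).rank ≤ 16 := by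
  have h := rank_map_le K _ _ _ 16 eq2_a47_1 eq2_a47_2
  rwa [card_cd_lt_16, map_sub_one, ← x_eq_map] at h

theorem rank_x44 : (chevF4.x K 44 1 - 1).rank ≤ 16 := by
  have h := rank_map_le K _ _ _ 16 eq2_a44_1 eq2_a44_2
  rwa [card_cd_lt_16, map_sub_one, ← x_eq_map] at h

theorem rank_z_le : (chevF4.x K 47 1 * chevF4.x K 44 1 - 1).rank ≤ 21 := by
  have h := rank_map_le K _ _ _ 21 eq2_az_1 eq2_az_2
  rwa [card_cd_lt_21, map_sub_one, Matrix.map_mul, ← x_eq_map, ← x_eq_map] at h

theorem rank_z_ge : 21 ≤ (chevF4.x K 47 1 * chevF4.x K 44 1 - 1).rank := by
  have h := rank_map_ge K _ _ _ 21 eq2_az_3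
  rwa [card_cd_lt_21, map_sub_one, Matrix.map_mul, ← x_eq_map, ← x_eq_map] at h

theorem rank_v_ge : 24 ≤ (chevF4.x K 39 1 * chevF4.x K 45 1 - 1).rank := by
  have h := rank_map_ge K _ _ _ 24 eq2_av_3
  rwa [card_cd_lt_24, map_sub_one, Matrix.map_mul, ← x_eq_map, ← x_eq_map] at h

/-- the rank of `y - 1` is a conjugacy invariant -/
theorem rank_sub_one_conj (g y : GL chevF4.Idx K) :
    (((g * y * g⁻¹ : GL chevF4.Idx K) : Matrix chevF4.Idx chevF4.Idx K) - 1).rank =
      ((y : Matrix chevF4.Idx chevF4.Idx K) - 1).rank := by
  have h1 : ((g * y * g⁻¹ : GL chevF4.Idx K) : Matrix chevF4.Idx chevF4.Idx K) - 1 =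
      (g : Matrix chevF4.Idx chevF4.Idx K) * ((y : Matrix chevF4.Idx chevF4.Idx K) - 1) *
        ((g⁻¹ : GL chevF4.Idx K) : Matrix chevF4.Idx chevF4.Idx K) := by
    rw [Units.val_mul, Units.val_mul, Matrix.mul_sub, Matrix.sub_mul, Matrix.mul_one, ← Units.val_mul g g⁻¹,
      mul_inv_cancel, Units.val_one]
  rw [h1, Matrix.rank_mul_eq_left_of_isUnit_det _ _ ((Matrix.isUnit_iff_isUnit_det _).mp g⁻¹.isUnit),
    Matrix.rank_mul_eq_right_of_isUnit_det _ _ ((Matrix.isUnit_iff_isUnit_det _).mp g.isUnit)]

end Transport

end Cfsg.Agent.Helper36.F4Ev
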