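import Cfsg.Agent.S1027
import Cfsg.Agent.S1043
import Cfsg.Agent.S1062

/-!
Helper36, piece (A) for helper4's S2174: every element of order 2 of `F₄(q)`, `q` even, is conjugate in
the group to an element of `U` (`U` is a Sylow 2-subgroup: `|U| = q^24`, `|G : U|` odd).
-/

set_option autoImplicit false

namespace Cfsg.Agent.Helper36.F4Ev

open Cfsg Cfsg.Lie

/-- an element of order `p` is conjugate into any `p`-subgroup of index prime to `p` -/
theorem conj_mem_of_index {G : Type*} [Group G] [Finite G] {p : ℕ} [Fact p.Prime]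
    (P : Subgroup G) (hP : IsPGroup p P) (hidx : ¬ p ∣ P.index) (g : G) (hg : orderOf g = p) :
    ∃ k : G, k * g * k⁻¹ ∈ P := by
  have hz : IsPGroup p (Subgroup.zpowers g) := by
    apply IsPGroup.of_card (n := 1)
    rw [Nat.card_zpowers, hg, pow_one]
  obtain ⟨Q, hQ⟩ := hz.exists_le_sylow
  obtain ⟨k, hk⟩ := MulAction.exists_smul_eq G Q (hP.toSylow hidx)
  refine ⟨k, ?_⟩
  have h1 : g ∈ (Q : Subgroup G) := hQ (Subgroup.mem_zpowers g)
  have h2 : k * g * k⁻¹ ∈ ((k • Q : Sylow p G) : Subgroup G) := by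
    rw [Sylow.coe_subgroup_smul, Subgroup.mem_pointwise_smul_iff_inv_smul_mem]
    simpa [MulAut.smul_def, mul_assoc] using h1
  rw [hk] at h2
  exact h2

variable {F : Type*} [Field F]

theorem hF4mem : chevF4 ∈ [chevG2, chevB2, chevD4, chevF4, chevE6, chevE7, chevE8] := by simp

theorem U_le_G : chevF4.posUnipotent F ≤ chevF4.group F :=
  le_trans le_sup_left (Cfsg.Agent.S1043.result (F := F) chevF4 hF4mem).1

/-- `U` as a subgroup of `G` -/
noncomputable def UG : Subgroup ↥(chevF4.group F) := (chevF4.posUnipotent F).subgroupOf (chevF4.group F)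

variable [Fintype F]

theorem card_UG : Nat.card (UG (F := F)) = Fintype.card F ^ 24 := by
  unfold UG
  rw [Nat.card_congr (Subgroup.subgroupOfEquivOfLe (U_le_G (F := F))).toEquiv,
    Cfsg.Agent.S1027.result chevF4 hF4mem]
  rfl

variable [CharP F 2]

theorem card_F : ∃ n : ℕ, 0 < n ∧ Fintype.card F = 2 ^ n := by
  obtain ⟨n, -, hn⟩ := FiniteField.card F 2
  exact ⟨n, n.pos, hn⟩

theorem UG_pgroup : IsPGroup 2 (UG (F := F)) := by
  obtain ⟨n, -, hn⟩ := card_F (F := F)
  apply IsPGroup.of_card (n := n * 24)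
  rw [card_UG, hn, pow_mul]

theorem UG_index : ¬ 2 ∣ (UG (F := F)).index := by
  obtain ⟨n, hn0, hn⟩ := card_F (F := F)
  have h1 := Subgroup.index_mul_card (UG (F := F))
  rw [card_UG, Cfsg.Agent.S1062.result (F := F) rfl] at h1
  set q := Fintype.card F with hq
  have hq0 : 0 < q := Fintype.card_pos
  have h2 : (UG (F := F)).index = (q ^ 2 - 1) * (q ^ 6 - 1) * (q ^ 8 - 1) * (q ^ 12 - 1) := by
    have h3 : (UG (F := F)).index * q ^ 24 =
        ((q ^ 2 - 1) * (q ^ 6 - 1) * (q ^ 8 - 1) * (q ^ 12 - 1)) * q ^ 24 := by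
      rw [h1]; ring
    exact Nat.eq_of_mul_eq_mul_right (pow_pos hq0 24) h3
  rw [h2]
  have hqe : 2 ∣ q := by rw [hn]; exact dvd_pow_self 2 hn0.ne'
  have ho : ∀ k : ℕ, 0 < k → ¬ 2 ∣ q ^ k - 1 := by
    intro k hk hdiv
    have h4 : 2 ∣ q ^ k := dvd_pow hqe hk.ne'
    have h5 : 1 ≤ q ^ k := Nat.one_le_pow _ _ hq0
    omega
  intro hdiv
  rcases (Nat.Prime.dvd_mul Nat.prime_two).mp hdiv with h | h
  · rcases (Nat.Prime.dvd_mul Nat.prime_two).mp h with h | h
    · rcases (Nat.Prime.dvd_mul Nat.prime_two).mp h with h | h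
      · exact ho 2 (by norm_num) h
      · exact ho 6 (by norm_num) h
    · exact ho 8 (by norm_num) h
  · exact ho 12 (by norm_num) h

/-- every involution of `G` is conjugate into `U` (inside the subtype) -/
theorem exists_conj_mem_UG (g : ↥(chevF4.group F)) (hg : orderOf g = 2) :
    ∃ k : ↥(chevF4.group F), k * g * k⁻¹ ∈ UG (F := F) := by
  have : Fact (Nat.Prime 2) := ⟨Nat.prime_two⟩
  exact conj_mem_of_index _ UG_pgroup UG_index g hg

/-- PIECE (A): every element of order 2 of `F₄(q)`, `q` even, is conjugate in the group into `U` -/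
theorem exists_conj_mem_U (g : GL Cfsg.Lie.chevF4.Idx F) (hg : g ∈ Cfsg.Lie.chevF4.group F)
    (h2 : orderOf g = 2) :
    ∃ h ∈ Cfsg.Lie.chevF4.group F, h * g * h⁻¹ ∈ Cfsg.Lie.chevF4.posUnipotent F := by
  have h2' : orderOf (⟨g, hg⟩ : ↥(chevF4.group F)) = 2 := by
    rw [← h2]
    exact (Subgroup.orderOf_coe (⟨g, hg⟩ : ↥(chevF4.group F))).symm
  obtain ⟨k, hk⟩ := exists_conj_mem_UG (F := F) ⟨g, hg⟩ h2'
  refine ⟨k.1, k.2, ?_⟩
  unfold UG at hk
  rw [Subgroup.mem_subgroupOf] at hk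
  simpa using hk

end Cfsg.Agent.Helper36.F4Ev
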